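import Cfsg.Agent.S0003
import Cfsg.Agent.S0205
import Cfsg.Agent.S0219
import Mathlib

/-!
# Orders forced by divisibility: the elementary tools
-/

set_option autoImplicit false
set_option linter.unusedSectionVars false
set_option linter.style.haveILetI false

namespace Cfsg.Lib.ForcedOrder

open Subgroup

universe u

variable {G : Type u} [Group G] [Finite G]

/-- `m` divides the order of `G` exactly. -/
def ExactDiv (m : ℕ) (G : Type u) : Prop :=
  m ∣ Nat.card G ∧ m.Coprime (Nat.card G / m)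

/-- `G` has a subgroup of order `m`. -/
def HasSub (m : ℕ) (G : Type u) [Group G] : Prop :=
  ∃ H : Subgroup G, Nat.card H = m

lemma ExactDiv.sub {m : ℕ} (h : ExactDiv m G) {L : Subgroup G} (hL : m ∣ Nat.card L) :
    ExactDiv m ↥L := by
  refine ⟨hL, h.2.coprime_dvd_right ?_⟩
  exact Nat.div_dvd_div hL (Subgroup.card_subgroup_dvd_card L)

lemma HasSub.map {m : ℕ} {L : Subgroup G} (h : HasSub m ↥L) : HasSub m G := by
  obtain ⟨H, hH⟩ := h
  exact ⟨H.map L.subtype,
    by rw [← hH, Nat.card_congr (H.equivMapOfInjective _ L.subtype_injective).toEquiv]⟩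

lemma hasSub_solvable {m : ℕ} (h : ExactDiv m G) [Group.IsSolvable G] : HasSub m G :=
  Cfsg.Agent.S0003.result m (Nat.card G / m) (Nat.mul_div_cancel' h.1).symm h.2

lemma hasSub_solvable_le {m : ℕ} (h : ExactDiv m G) (L : Subgroup G) (hL : m ∣ Nat.card L)
    (hs : Group.IsSolvable ↥L) : HasSub m G := by
  haveI := hs
  exact (hasSub_solvable (h.sub hL)).map

lemma solvable_of_odd (h : Odd (Nat.card G)) : Group.IsSolvable G :=
  Cfsg.Agent.S0205.result h

lemma solvable_of_two_exact (h : ExactDiv 2 G) : Group.IsSolvable G := by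
  haveI : Fact (Nat.Prime 2) := ⟨Nat.prime_two⟩
  have heven : Even (Nat.card G) := even_iff_two_dvd.2 h.1
  have hodd : ¬ 2 ∣ Nat.card G / 2 := (Nat.Prime.coprime_iff_not_dvd Nat.prime_two).1 h.2
  obtain ⟨T⟩ : Nonempty (Sylow 2 G) := inferInstance
  have hT : Nat.card (T : Subgroup G) = 2 := by
    rw [T.card_eq_multiplicity]
    have h2 : Nat.card G = 2 * (Nat.card G / 2) := (Nat.mul_div_cancel' h.1).symm
    have h0 : Nat.card G / 2 ≠ 0 := fun e => hodd (e ▸ dvd_zero 2)
    rw [h2, Nat.factorization_mul two_ne_zero h0, Finsupp.add_apply,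
      Nat.Prime.factorization_self Nat.prime_two, Nat.factorization_eq_zero_of_not_dvd hodd]
    norm_num
  haveI : IsCyclic (T : Subgroup G) := isCyclic_of_prime_card hT
  obtain ⟨H, hH⟩ := Cfsg.Agent.S0219.result heven T inferInstance
  haveI : H.Normal := Subgroup.normal_of_index_eq_two hH
  have hcard : Nat.card H = Nat.card G / 2 := by
    rw [← H.card_mul_index, hH, Nat.mul_div_cancel _ two_pos]
  haveI : Group.IsSolvable H := solvable_of_odd (Nat.odd_iff.2 (Nat.two_dvd_ne_zero.1 (hcard ▸ hodd)))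
  haveI : Fintype (G ⧸ H) := Fintype.ofFinite _
  have hq : Nat.card (G ⧸ H) = 2 := by rw [← Subgroup.index_eq_card, hH]
  haveI : IsCyclic (G ⧸ H) := isCyclic_of_prime_card hq
  letI : CommGroup (G ⧸ H) := IsCyclic.commGroup
  exact solvable_of_ker_le_range H.subtype (QuotientGroup.mk' H) (by simp)

theorem hasSub_of_mod_four {m : ℕ} (h : ExactDiv m G) (hm : m % 4 = 2) : HasSub m G := by
  obtain ⟨k, hk⟩ : ∃ k, m = 2 * k := ⟨m / 2, by omega⟩
  have h2 : ExactDiv 2 G := by
    refine ⟨dvd_trans ⟨k, hk⟩ h.1, ?_⟩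
    have hk2 : ¬ 2 ∣ k := by omega
    rw [Nat.Prime.coprime_iff_not_dvd Nat.prime_two]
    intro hd
    have hc : ¬ 2 ∣ Nat.card G / m :=
      (Nat.Prime.coprime_iff_not_dvd Nat.prime_two).1 (h.2.coprime_dvd_left ⟨k, hk⟩)
    obtain ⟨c, hc'⟩ := h.1
    have hm0 : 0 < m := by omega
    rw [hc', Nat.mul_div_cancel_left _ hm0] at hc
    rw [hc', hk, mul_assoc, Nat.mul_div_cancel_left _ two_pos] at hd
    rcases (Nat.Prime.dvd_mul Nat.prime_two).1 hd with e | e
    · exact hk2 e
    · exact hc e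
  haveI := solvable_of_two_exact h2
  exact hasSub_solvable h

theorem hasSub_of_primePow {m : ℕ} (h : ExactDiv m G) (hm : IsPrimePow m) : HasSub m G := by
  obtain ⟨p, k, hp, -, rfl⟩ := hm
  haveI : Fact p.Prime := ⟨Nat.prime_iff.2 hp⟩
  exact Sylow.exists_subgroup_card_pow_prime p h.1

/-- Preimages. -/
lemma card_comap_mk' (N : Subgroup G) [N.Normal] (H : Subgroup (G ⧸ N)) :
    Nat.card (H.comap (QuotientGroup.mk' N)) = Nat.card N * Nat.card H := by
  have h1 := (H.comap (QuotientGroup.mk' N)).card_mul_index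
  rw [index_comap_of_surjective _ (QuotientGroup.mk'_surjective N)] at h1
  have h2 := H.card_mul_index
  have h3 := N.card_mul_index
  rw [Subgroup.index_eq_card, ← h2, ← mul_assoc] at h3
  exact Nat.eq_of_mul_eq_mul_right (Nat.pos_of_ne_zero H.index_ne_zero_of_finite) (h1.trans h3.symm)

lemma solvable_comap (N : Subgroup G) [N.Normal] (H : Subgroup (G ⧸ N)) (hN : Group.IsSolvable ↥N)
    (hH : Group.IsSolvable ↥H) : Group.IsSolvable ↥(H.comap (QuotientGroup.mk' N)) := by
  haveI := hN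
  haveI := hH
  let f : ↥(H.comap (QuotientGroup.mk' N)) →* ↥H :=
    (QuotientGroup.mk' N).subgroupComap H
  have hle : N ≤ H.comap (QuotientGroup.mk' N) := fun x hx => by
    rw [Subgroup.mem_comap, QuotientGroup.mk'_apply, (QuotientGroup.eq_one_iff x).2 hx]
    exact one_mem H
  refine solvable_of_ker_le_range (Subgroup.inclusion hle) f ?_
  intro x hx
  have hx' : ((x : G) : G ⧸ N) = 1 := congrArg Subtype.val (MonoidHom.mem_ker.1 hx)
  exact ⟨⟨x, (QuotientGroup.eq_one_iff _).1 hx'⟩, Subtype.ext rfl⟩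

lemma solvable_of_card_prime_pow {p k : ℕ} [Fact p.Prime] (h : Nat.card G = p ^ k) :
    Group.IsSolvable G := by
  haveI := (IsPGroup.of_card h).isNilpotent
  infer_instance

end Cfsg.Lib.ForcedOrder
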