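import Cfsg.Agent.ForcedOrder.Basic
import Cfsg.Agent.S0799
import Cfsg.Agent.Classical.SL
import Cfsg.Agent.Classical.Misc.SmallPSL

/-!
For `m` outside the list some `PSL(2, r)`, `r` prime, has no subgroup of order `m`.
-/

set_option autoImplicit false
set_option linter.unusedSectionVars false
set_option linter.style.haveILetI false

namespace Cfsg.Lib.ForcedOrder

open Subgroup Matrix

/-- A splitting of `m` into coprime parts suited to the congruences. -/
theorem exists_split {m : ℕ} (hm : 2 ≤ m) (hpp : ¬ IsPrimePow m) (h4 : m % 4 ≠ 2) :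
    ∃ a b : ℕ, m = a * b ∧ a.Coprime b ∧ 2 < a ∧ 2 < b ∧ Odd b ∧ (Odd a ∨ 4 ∣ a) := by
  obtain ⟨p, hp, hpm, hp2⟩ : ∃ p, p.Prime ∧ p ∣ m ∧ (2 ∣ m → p = 2) := by
    by_cases h : 2 ∣ m
    · exact ⟨2, Nat.prime_two, h, fun _ => rfl⟩
    · exact ⟨m.minFac, Nat.minFac_prime (by omega), m.minFac_dvd, fun h' => absurd h' h⟩
  obtain ⟨e, n', hn', hme⟩ := Nat.exists_eq_pow_mul_and_not_dvd (by omega : m ≠ 0) p hp.ne_one
  have he : e ≠ 0 := by rintro rfl; rw [pow_zero, one_mul] at hme; exact hn' (hme ▸ hpm)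
  have hn1 : n' ≠ 1 := by
    rintro rfl
    exact hpp ⟨p, e, hp.prime, Nat.pos_of_ne_zero he, by rw [hme, mul_one]⟩
  have hn0 : n' ≠ 0 := by rintro rfl; exact hn' (dvd_zero p)
  refine ⟨p ^ e, n', hme, Nat.Coprime.pow_left _ (hp.coprime_iff_not_dvd.2 hn'), ?_⟩
  rcases Nat.even_or_odd m with hev | hod
  · obtain rfl := hp2 hev.two_dvd
    obtain ⟨k, rfl⟩ : Odd n' := Nat.not_even_iff_odd.1 fun h => hn' h.two_dvd
    have he2 : 2 ≤ e := by
      by_contra h
      obtain rfl : e = 1 := by omega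
      omega
    have h4' : 4 ∣ 2 ^ e := pow_dvd_pow 2 he2
    have := Nat.le_of_dvd (by positivity) h4'
    exact ⟨by omega, by omega, ⟨k, rfl⟩, Or.inr h4'⟩
  · have h1 : Odd (p ^ e) := hod.of_dvd_nat ⟨n', hme⟩
    have h2 : Odd n' := hod.of_dvd_nat ⟨p ^ e, by rw [hme, mul_comm]⟩
    have h3 : 1 < p ^ e := Nat.one_lt_pow he hp.one_lt
    rw [Nat.odd_iff] at h1 h2
    exact ⟨by omega, by omega, Nat.odd_iff.2 h2, Or.inl (Nat.odd_iff.2 h1)⟩

/-- A suitable prime. -/
theorem exists_prime {a b : ℕ} (ha : 2 < a) (hb : 2 < b) (hab : a.Coprime b) :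
    ∃ r : ℕ, r.Prime ∧ a * b < r ∧ (r : ℤ) ≡ 1 + a [ZMOD (a : ℤ) ^ 2] ∧
      (r : ℤ) ≡ -1 + b [ZMOD (b : ℤ) ^ 2] := by
  have hcop : (a ^ 2).Coprime (b ^ 2) := hab.pow 2 2
  obtain ⟨c, hc1, hc2⟩ := Nat.chineseRemainder hcop (1 + a) (b ^ 2 - 1 + b)
  have hca : c.Coprime a := by
    have h := hc1.of_dvd (dvd_pow_self a two_ne_zero)
    have : c % a = 1 % a := h.trans (Nat.add_mod_right 1 a)
    rw [Nat.coprime_iff_gcd_eq_one, Nat.gcd_comm, Nat.gcd_rec, this, ← Nat.gcd_rec]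
    simp
  have hcb : c.Coprime b := by
    have h := hc2.of_dvd (dvd_pow_self b two_ne_zero)
    have hbb : (b ^ 2 - 1 + b) + 1 = b * (b + 1) := by
      have := Nat.one_le_pow 2 b (by omega)
      rw [Nat.mul_succ, ← pow_two]; omega
    refine Nat.coprime_of_dvd fun p hp hpc hpb => hp.not_dvd_one ?_
    have h' := (h.of_dvd hpb)
    have h0 : p ∣ b ^ 2 - 1 + b := (Nat.ModEq.dvd_iff h' dvd_rfl).1 hpc
    have h1 : p ∣ (b ^ 2 - 1 + b) + 1 := hbb ▸ hpb.mul_right _
    exact (Nat.dvd_add_right h0).1 h1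
  have hu : IsUnit ((c : ℕ) : ZMod (a ^ 2 * b ^ 2)) :=
    (ZMod.isUnit_iff_coprime _ _).2 ((hca.pow_right 2).mul_right (hcb.pow_right 2))
  haveI : NeZero (a ^ 2 * b ^ 2) := ⟨by positivity⟩
  obtain ⟨r, hr, hrp, hrc⟩ := Nat.forall_exists_prime_gt_and_eq_mod hu (a * b)
  refine ⟨r, hrp, hr, ?_, ?_⟩
  · have h := ((ZMod.natCast_eq_natCast_iff _ _ _).1 hrc).of_mul_right (b ^ 2) |>.trans hc1
    have h' := Int.natCast_modEq_iff.2 h
    push_cast at h' ⊢
    exact h'
  · have h := ((ZMod.natCast_eq_natCast_iff _ _ _).1 hrc).of_mul_left (a ^ 2) |>.trans hc2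
    have h' := Int.natCast_modEq_iff.2 h
    rw [Nat.cast_add, Nat.cast_sub (Nat.one_le_pow _ _ (by omega))] at h'
    push_cast at h' ⊢
    refine h'.trans ?_
    exact Int.modEq_iff_dvd.2 ⟨-1, by ring⟩

theorem card_psl_prime {r : ℕ} [Fact r.Prime] (hodd : Odd r) :
    2 * Nat.card (ProjectiveSpecialLinearGroup (Fin 2) (ZMod r)) = r * (r ^ 2 - 1) := by
  have h := Cfsg.Lib.Classical.SmallPSL.card_psl (F := ZMod r) (ZMod.card r)
  have h1 := (Fact.out : r.Prime).two_le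
  rwa [Nat.gcd_eq_left (by obtain ⟨k, rfl⟩ := hodd; exact ⟨k, by omega⟩)] at h

/-- The normaliser of a Sylow `r`-subgroup has order `r (r - 1) / 2`. -/
theorem card_normalizer_prime {r : ℕ} [Fact r.Prime] (h5 : 5 ≤ r)
    (P : Sylow r (ProjectiveSpecialLinearGroup (Fin 2) (ZMod r))) :
    2 * Nat.card ↥(normalizer ((P : Subgroup (ProjectiveSpecialLinearGroup (Fin 2) (ZMod r))) :
      Set (ProjectiveSpecialLinearGroup (Fin 2) (ZMod r)))) = r * (r - 1) := by
  set G := ProjectiveSpecialLinearGroup (Fin 2) (ZMod r)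
  have hr : r.Prime := Fact.out
  have hodd : Odd r := hr.odd_of_ne_two (by omega)
  obtain ⟨h, hh⟩ := hodd
  have hG := card_psl_prime (r := r) ⟨h, hh⟩
  have hsq : r ^ 2 - 1 = 4 * (h * (h + 1)) := by
    rw [hh, show (2 * h + 1) ^ 2 = 4 * (h * (h + 1)) + 1 by ring, Nat.add_sub_cancel]
  rw [hsq] at hG
  have hG' : Nat.card G = r * (2 * (h * (h + 1))) := by
    have : r * (4 * (h * (h + 1))) = 2 * (r * (2 * (h * (h + 1)))) := by ring
    rw [this] at hG; exact Nat.eq_of_mul_eq_mul_left two_pos hG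
  set N := normalizer ((P : Subgroup G) : Set G)
  set n := Nat.card (Sylow r G) with hn
  have hidx : N.index = n := (Sylow.card_eq_index_normalizer P).symm
  have hNG := N.card_mul_index
  rw [hidx] at hNG
  have hne : n ≠ 1 := by
    intro h1
    haveI : IsSimpleGroup G :=
      Cfsg.Lib.Classical.isSimpleGroup_PSL_fin le_rfl (fun _ => by rw [Nat.card_zmod]; omega)
    have hPn : (P : Subgroup G).Normal := by
      rw [← normalizer_eq_top_iff, ← Subgroup.index_eq_one]; exact hidx.trans h1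
    have hrG : r ∣ Nat.card G := by rw [hG']; exact dvd_mul_right _ _
    rcases hPn.eq_bot_or_eq_top with e | e
    · have h' := P.dvd_card_of_dvd_card hrG
      rw [e, card_bot] at h'
      exact hr.not_dvd_one h'
    · obtain ⟨k, hk⟩ := P.2.exists_card_eq
      rw [e, Nat.card_congr Subgroup.topEquiv.toEquiv, hG'] at hk
      have h2 : 2 ∣ r ^ k := ⟨r * (h * (h + 1)), by rw [← hk]; ring⟩
      have := (Nat.prime_dvd_prime_iff_eq Nat.prime_two hr).1 (Nat.prime_two.dvd_of_dvd_pow h2)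
      omega
  have hrn : ¬ r ∣ n := hidx ▸ fun h => by
    have hd : N.index ∣ (P : Subgroup G).index := index_dvd_of_le le_normalizer
    exact P.not_dvd_index (h.trans hd)
  have hnG : n ∣ r * (2 * (h * (h + 1))) := hG' ▸ hNG ▸ dvd_mul_left _ _
  obtain ⟨l, hl⟩ := (Nat.Coprime.dvd_mul_left (hr.coprime_iff_not_dvd.2 hrn).symm).1 hnG
  obtain ⟨j, hj⟩ : ∃ j, n = 1 + j * r := by
    have h1 := card_sylow_modEq_one r G
    have hpos : 1 ≤ n := Nat.one_le_iff_ne_zero.2 Nat.card_pos.ne'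
    obtain ⟨j, hj⟩ := (Nat.modEq_iff_dvd' hpos).1 h1.symm
    exact ⟨j, by rw [mul_comm] at hj; omega⟩
  have hj0 : j ≠ 0 := by rintro rfl; omega
  have key : n = r + 1 := by
    -- `n l = (r ^ 2 - 1) / 2` with `n ≡ 1 (mod r)` forces `l = (r - 1) / 2`
    have e : n * l = 2 * (h * (h + 1)) := hl.symm
    have hlh : (l : ℤ) ≡ h [ZMOD (r : ℤ)] := by
      have e' : ((n : ℤ) * l) = 2 * (h * (h + 1)) := by exact_mod_cast e
      rw [hj] at e'
      push_cast at e'
      refine Int.modEq_iff_dvd.2 ⟨(j : ℤ) * l - h, ?_⟩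
      rw [hh]; push_cast
      have hr' : (r : ℤ) = 2 * h + 1 := by exact_mod_cast hh
      rw [hr'] at e'
      linear_combination -e'
    rcases Nat.lt_or_ge l r with hlt | hge
    · have hlh' : l = h := by
        have hm : l % r = h % r := by exact_mod_cast hlh
        rwa [Nat.mod_eq_of_lt hlt, Nat.mod_eq_of_lt (by omega)] at hm
      subst hlh'
      have hl0 : l ≠ 0 := by omega
      have : n = 2 * (l + 1) := by
        apply Nat.eq_of_mul_eq_mul_right (Nat.pos_of_ne_zero hl0)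
        rw [e]; ring
      omega
    · exfalso
      have h1 : (r + 1) * r ≤ n * l := Nat.mul_le_mul (by rw [hj]; nlinarith [Nat.pos_of_ne_zero hj0]) hge
      rw [e, hh] at h1
      nlinarith
  rw [hG', key] at hNG
  have h2 : (2 * Nat.card N) * (h + 1) = (r * (r - 1)) * (h + 1) := by
    have e1 : r - 1 = 2 * h := by omega
    rw [e1]
    have e2 : r + 1 = 2 * (h + 1) := by omega
    rw [e2] at hNG
    calc (2 * Nat.card N) * (h + 1) = Nat.card N * (2 * (h + 1)) := by ring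
      _ = r * (2 * (h * (h + 1))) := hNG
      _ = _ := by ring
  exact Nat.eq_of_mul_eq_mul_right (by omega) h2

/-- `m` outside the list is not forced. -/
theorem exists_counterexample {m : ℕ} (hm : 2 ≤ m) (hpp : ¬ IsPrimePow m) (h4 : m % 4 ≠ 2)
    (h12 : m ≠ 12) (h24 : m ≠ 24) (h60 : m ≠ 60) :
    ∃ (G : Type) (_ : Group G) (_ : Finite G), m ∣ Nat.card G ∧ m.Coprime (Nat.card G / m) ∧
      ∀ H : Subgroup G, Nat.card H ≠ m := by
  classical
  obtain ⟨a, b, hab, hcop, ha, hb, hbo, hao⟩ := exists_split hm hpp h4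
  obtain ⟨r, hr, hrm, hra, hrb⟩ := exists_prime ha hb hcop
  haveI : Fact r.Prime := ⟨hr⟩
  have hab9 : 9 ≤ a * b := Nat.mul_le_mul ha hb
  have hodd : Odd r := hr.odd_of_ne_two (by omega)
  obtain ⟨ka, hka⟩ := Int.modEq_iff_dvd.1 hra.symm
  obtain ⟨kb, hkb⟩ := Int.modEq_iff_dvd.1 hrb.symm
  -- the two halves
  have hA : (r : ℤ) - 1 = a * (1 + a * ka) := by linear_combination hka
  have hB : (r : ℤ) + 1 = b * (1 + b * kb) := by linear_combination hkb
  have hG := card_psl_prime (r := r) hodd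
  obtain ⟨x, hx, hxa⟩ : ∃ x : ℕ, r - 1 = a * x ∧ (x : ℤ) = 1 + a * ka := by
    refine ⟨((r : ℤ) - 1).toNat / a, ?_, ?_⟩
    · rw [Nat.mul_div_cancel' ?_]
      · omega
      · refine Int.natCast_dvd_natCast.1 ?_
        rw [Int.toNat_of_nonneg (by omega)]; exact ⟨_, hA⟩
    · rw [Int.natCast_div, Int.toNat_of_nonneg (by omega), hA, Int.mul_ediv_cancel_left _ (by omega)]
  obtain ⟨y, hy, hyb⟩ : ∃ y : ℕ, r + 1 = b * y ∧ (y : ℤ) = 1 + b * kb := by
    refine ⟨(r + 1) / b, ?_, ?_⟩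
    · rw [Nat.mul_div_cancel' ?_]
      refine Int.natCast_dvd_natCast.1 ?_
      push_cast; exact ⟨_, hB⟩
    · rw [Int.natCast_div]; push_cast; rw [hB, Int.mul_ediv_cancel_left _ (by omega)]
  have hxy : (a * x) * (b * y) = r ^ 2 - 1 := by
    rw [← hx, ← hy, mul_comm, ← Nat.sq_sub_sq, one_pow]
  have hcard : 2 * Nat.card (ProjectiveSpecialLinearGroup (Fin 2) (ZMod r)) = m * (r * (x * y)) := by
    rw [hG, ← hxy, hab]; ring
  have hxA : x.Coprime a := by
    refine Nat.coprime_of_dvd fun p hp hpx hpa => hp.not_dvd_one ?_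
    have h1 : (p : ℤ) ∣ (x : ℤ) - (a : ℤ) * ka :=
      dvd_sub (Int.natCast_dvd_natCast.2 hpx) ((Int.natCast_dvd_natCast.2 hpa).mul_right _)
    rw [hxa, add_sub_cancel_right] at h1
    exact Int.natCast_dvd_natCast.1 (by exact_mod_cast h1)
  have hyB : y.Coprime b := by
    refine Nat.coprime_of_dvd fun p hp hpy hpb => hp.not_dvd_one ?_
    have h1 : (p : ℤ) ∣ (y : ℤ) - (b : ℤ) * kb :=
      dvd_sub (Int.natCast_dvd_natCast.2 hpy) ((Int.natCast_dvd_natCast.2 hpb).mul_right _)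
    rw [hyb, add_sub_cancel_right] at h1
    exact Int.natCast_dvd_natCast.1 (by exact_mod_cast h1)
  have hxB : x.Coprime b := by
    refine Nat.coprime_of_dvd fun p hp hpx hpb => ?_
    have hp2 : p ∣ 2 := by
      have h1 : p ∣ r - 1 := hx ▸ hpx.mul_left a
      have h2 : p ∣ r + 1 := hy ▸ hpb.mul_right y
      have := Nat.dvd_sub h2 h1
      rwa [show r + 1 - (r - 1) = 2 by omega] at this
    rw [(Nat.prime_dvd_prime_iff_eq hp Nat.prime_two).1 hp2] at hpb
    exact Nat.not_even_iff_odd.2 hbo (even_iff_two_dvd.2 hpb)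
  -- only the factor two is shared by `r + 1` and `a`
  have hr1 : ∀ p, p ∣ a → p ∣ r + 1 → p ∣ 2 := fun p hpa hp1 => by
    have h1 : p ∣ r - 1 := hx ▸ hpa.mul_right x
    have := Nat.dvd_sub hp1 h1
    rwa [show r + 1 - (r - 1) = 2 by omega] at this
  have hG2 : ∀ z, x * y = 2 * z → Nat.card (ProjectiveSpecialLinearGroup (Fin 2) (ZMod r)) = m * (r * z) := by
    intro z hz
    rw [hz] at hcard
    apply Nat.eq_of_mul_eq_mul_left two_pos
    rw [hcard]; ring
  obtain ⟨z, hz, hzc⟩ : ∃ z, x * y = 2 * z ∧ (z).Coprime m := by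
    rcases hao with hao | hao
    · have hev : 2 ∣ x * y := by
        refine Dvd.dvd.mul_left ?_ x
        have h2 : 2 ∣ b * y := hy ▸ hodd.add_one.two_dvd
        exact (Nat.Coprime.dvd_mul_left (Nat.coprime_two_left.2 hbo)).1 h2
      obtain ⟨z, hz⟩ := hev
      refine ⟨z, hz, ?_⟩
      have hyA : y.Coprime a := by
        refine Nat.coprime_of_dvd fun p hp hpy hpa => ?_
        have hp2 := (Nat.prime_dvd_prime_iff_eq hp Nat.prime_two).1 (hr1 p hpa (hy ▸ hpy.mul_left b))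
        rw [hp2] at hpa
        exact Nat.not_even_iff_odd.2 hao (even_iff_two_dvd.2 hpa)
      rw [hab]
      have h' : (x * y).Coprime (a * b) := ((hxA.mul_left hyA).mul_right (hxB.mul_left hyB))
      exact h'.coprime_dvd_left ⟨2, by rw [hz, mul_comm]⟩
    · have h2a : 2 ∣ a := (show 2 ∣ 4 by norm_num).trans hao
      have h2y : 2 ∣ y := (Nat.Coprime.dvd_mul_left (Nat.coprime_two_left.2 hbo)).1 (hy ▸ hodd.add_one.two_dvd)
      obtain ⟨w, hw⟩ := h2y
      refine ⟨x * w, by rw [hw]; ring, ?_⟩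
      have hwA : w.Coprime a := by
        refine Nat.coprime_of_dvd fun p hp hpw hpa => ?_
        have hp1 : p ∣ r + 1 := hy ▸ hw ▸ (hpw.mul_left 2).mul_left b
        obtain rfl := (Nat.prime_dvd_prime_iff_eq hp Nat.prime_two).1 (hr1 p hpa hp1)
        have h4r : 4 ∣ r + 1 := by
          obtain ⟨c, hc⟩ := hpw
          exact ⟨b * c, by rw [hy, hw, hc]; ring⟩
        have h4s : 4 ∣ r - 1 := hx ▸ hao.mul_right x
        omega
      rw [hab]
      exact ((hxA.mul_left hwA).mul_right (hxB.mul_left (hyB.coprime_dvd_left ⟨2, by rw [hw, mul_comm]⟩)))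
  have hcard' := hG2 z hz
  refine ⟨ProjectiveSpecialLinearGroup (Fin 2) (ZMod r), inferInstance, inferInstance,
    ⟨r * z, hcard'⟩, ?_, fun H hH => ?_⟩
  · rw [hcard', Nat.mul_div_cancel_left _ (by omega)]
    refine Nat.Coprime.mul_right ?_ hzc.symm
    exact Nat.Coprime.symm (hr.coprime_iff_not_dvd.2 fun h => absurd (Nat.le_of_dvd (by omega) h) (by omega))
  have hm1 : ¬ m ∣ r + 1 := fun h => by
    have h2 := Nat.le_of_dvd two_pos (hr1 a dvd_rfl ((hab ▸ dvd_mul_right a b : a ∣ m).trans h))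
    omega
  have hm2 : ¬ m ∣ r - 1 := fun h => by
    have h1 : b ∣ r - 1 := (hab ▸ dvd_mul_left b a : b ∣ m).trans h
    have h2 : b ∣ r + 1 := hy ▸ dvd_mul_right b y
    have := Nat.le_of_dvd two_pos (show b ∣ 2 by
      have := Nat.dvd_sub h2 h1
      rwa [show r + 1 - (r - 1) = 2 by omega] at this)
    omega
  have hgcd : Nat.gcd 2 (r - 1) = 2 :=
    Nat.gcd_eq_left (by obtain ⟨k, rfl⟩ := hodd; exact ⟨k, by omega⟩)
  rcases Cfsg.Agent.S0799.result (ZMod.card r) r H with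
    ⟨k, hk, hk'⟩ | ⟨P, K, hK, ⟨e⟩⟩ | h | h | h | ⟨K, _, _, j, hj, h⟩
  · have hk2 : m ∣ 2 * k := by
      rcases hk' with ⟨-, hc⟩ | ⟨⟨e⟩⟩
      · rw [← hH, hc]; exact dvd_mul_left k 2
      · rw [← hH, Nat.card_congr e.toEquiv, DihedralGroup.nat_card]
    obtain ⟨t, ht⟩ := hodd
    rw [hgcd] at hk
    rcases hk with hk | hk
    · exact hm1 (hk2.trans ((Nat.mul_dvd_mul_left 2 hk).trans (by
        rw [Nat.mul_div_cancel' ⟨t + 1, by omega⟩])))
    · exact hm2 (hk2.trans ((Nat.mul_dvd_mul_left 2 hk).trans (by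
        rw [Nat.mul_div_cancel' ⟨t, by omega⟩])))
  · have hd : m ∣ r * (r - 1) := by
      rw [← card_normalizer_prime (by omega) P, ← hH, Nat.card_congr e.toEquiv]
      exact (card_dvd_of_le hK).mul_left 2
    have h1 : b ∣ r * (r - 1) := (hab ▸ dvd_mul_left b a : b ∣ m).trans hd
    have hbr : r.Coprime b := hr.coprime_iff_not_dvd.2 fun h => by
      have := Nat.le_of_dvd (by omega) h; nlinarith
    have h2 : b ∣ r - 1 := (Nat.Coprime.dvd_mul_left hbr.symm).1 h1
    have h3 : b ∣ r + 1 := hy ▸ dvd_mul_right b y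
    have := Nat.le_of_dvd two_pos (show b ∣ 2 by
      have := Nat.dvd_sub h3 h2
      rwa [show r + 1 - (r - 1) = 2 by omega] at this)
    omega
  · obtain ⟨e⟩ := h
    rw [Nat.card_congr e.toEquiv, nat_card_alternatingGroup, Nat.card_fin] at hH
    norm_num [Nat.factorial] at hH
    omega
  · obtain ⟨e⟩ := h
    rw [Nat.card_congr e.toEquiv, Nat.card_perm, Nat.card_fin] at hH
    norm_num [Nat.factorial] at hH
    omega
  · obtain ⟨e⟩ := h
    rw [Nat.card_congr e.toEquiv, nat_card_alternatingGroup, Nat.card_fin] at hH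
    norm_num [Nat.factorial] at hH
    omega
  · have hKr : Fintype.card K = r := by
      obtain ⟨i, hile, hi⟩ := (Nat.dvd_prime_pow hr).1 (show Fintype.card K ∣ r ^ 1 by
        rw [pow_one, ← hj]; exact dvd_pow_self _ (fun e => by rw [e, pow_zero] at hj; exact hr.ne_one hj.symm))
      rcases i with _ | _ | i
      · have := Fintype.one_lt_card (α := K); rw [pow_zero] at hi; omega
      · rw [hi, pow_one]
      · omega
    have hrm' : r ∣ m := by
      rw [← hH]
      have h2 : r ∣ 2 * Nat.card H := by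
        rcases h with ⟨⟨e⟩⟩ | ⟨⟨e⟩⟩
        · rw [Nat.card_congr e.toEquiv]
          have hh := Cfsg.Lib.Classical.SmallPSL.card_psl hKr
          rw [hgcd] at hh
          exact hh ▸ dvd_mul_right _ _
        · rw [Nat.card_congr e.toEquiv, Cfsg.Lib.Classical.card_PGL, Cfsg.Lib.Classical.SLTwoTori.card_SL2, hKr]
          exact Dvd.dvd.mul_left (dvd_mul_right _ _) 2
      exact (Nat.Coprime.dvd_mul_left (hr.coprime_iff_not_dvd.2 fun h => by
        have := Nat.le_of_dvd two_pos h; omega)).1 h2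
    have := Nat.le_of_dvd (by omega) hrm'
    rw [hab] at this
    omega

end Cfsg.Lib.ForcedOrder
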