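import Cfsg.Agent.ForcedOrder.Basic
import Cfsg.Agent.S0071

/-!
# Fusion in a Sylow 2-subgroup of order at most eight
-/

set_option autoImplicit false
set_option linter.unusedSectionVars false
set_option linter.style.haveILetI false

namespace Cfsg.Lib.ForcedOrder

open Subgroup

universe u

variable {G : Type u} [Group G] [Finite G]

lemma not_solvable_fusion (hns : ¬ Group.IsSolvable G) (S : Sylow 2 G) :
    ∃ Q : Subgroup G, Q ≤ (S : Subgroup G) ∧ ∃ g ∈ normalizer (Q : Set G),
      Odd (orderOf g) ∧ g ∉ centralizer (Q : Set G) := by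
  haveI : Fact (Nat.Prime 2) := ⟨Nat.prime_two⟩
  by_contra hcon
  push Not at hcon
  obtain ⟨N, hN, hc⟩ := (Cfsg.Agent.S0071.result S).2 fun Q hQ g hg hco =>
    hcon Q hQ g hg (Nat.coprime_two_right.1 hco)
  haveI := hN
  obtain ⟨k, hk⟩ := IsPGroup.iff_card.1 S.2
  have hodd : Odd (Nat.card N) := by
    rw [← Nat.not_even_iff_odd, even_iff_two_dvd]
    intro hd
    have hi : N.index = 2 ^ k := by rw [hc.symm.index_eq_card, hk]
    have hmul := hc.card_mul
    have h1 : Nat.card N = Nat.card G / Nat.card (S : Subgroup G) := by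
      rw [← hmul, Nat.mul_div_cancel _ Nat.card_pos]
    rw [h1, ← (S : Subgroup G).card_mul_index, Nat.mul_div_cancel_left _ Nat.card_pos] at hd
    exact S.not_dvd_index hd
  haveI := solvable_of_odd hodd
  haveI : Group.IsSolvable (G ⧸ N) := solvable_of_card_prime_pow (p := 2) (k := k) (by
    rw [← Subgroup.index_eq_card, hc.symm.index_eq_card, hk])
  exact hns (solvable_of_ker_le_range N.subtype (QuotientGroup.mk' N) (by simp))

/-- An automorphism as a permutation of the elements other than the identity. -/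
def autPerm (Q : Type*) [Group Q] : MulAut Q →* Equiv.Perm {x : Q // x ≠ 1} where
  toFun φ := φ.toEquiv.subtypeEquiv fun x => (MulEquiv.map_ne_one_iff (h := φ)).symm
  map_one' := rfl
  map_mul' _ _ := rfl

lemma autPerm_injective (Q : Type*) [Group Q] : Function.Injective (autPerm Q) := by
  intro φ ψ h
  ext x
  by_cases hx : x = 1
  · simp [hx]
  · exact congrArg Subtype.val (DFunLike.congr_fun h ⟨x, hx⟩)

lemma orderOf_aut_dvd (Q : Type*) [Group Q] [Finite Q] (φ : MulAut Q) :
    orderOf φ ∣ Nat.factorial (Nat.card Q - 1) := by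
  classical
  rw [← orderOf_injective (autPerm Q) (autPerm_injective Q) φ]
  refine (_root_.orderOf_dvd_natCard _).trans ?_
  rw [Nat.card_perm]
  refine dvd_of_eq (congrArg _ ?_)
  haveI := Fintype.ofFinite Q
  rw [Nat.card_eq_fintype_card, Fintype.card_subtype_compl, Fintype.card_subtype_eq, Nat.card_eq_fintype_card]

/-- The action of an element of the normaliser. -/
noncomputable abbrev normAut (Q : Subgroup G) {g : G} (hg : g ∈ normalizer (Q : Set G)) : MulAut Q :=
  Q.normalizerMonoidHom ⟨g, hg⟩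

lemma normAut_ne_one {Q : Subgroup G} {g : G} (hg : g ∈ normalizer (Q : Set G))
    (hc : g ∉ centralizer (Q : Set G)) : normAut Q hg ≠ 1 := by
  intro h
  have h' : (⟨g, hg⟩ : normalizer (Q : Set G)) ∈ Q.normalizerMonoidHom.ker := h
  rw [normalizerMonoidHom_ker] at h'
  exact hc h'

lemma orderOf_normAut_dvd {Q : Subgroup G} {g : G} (hg : g ∈ normalizer (Q : Set G)) :
    orderOf (normAut Q hg) ∣ orderOf g := by
  refine (orderOf_map_dvd Q.normalizerMonoidHom _).trans (dvd_of_eq ?_)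
  rw [Subgroup.orderOf_mk]

lemma fusion_small {Q : Subgroup G} (hQ : IsPGroup 2 Q) (h4 : Nat.card Q ≤ 4) {g : G}
    (hg : g ∈ normalizer (Q : Set G)) (ho : Odd (orderOf g)) (hc : g ∉ centralizer (Q : Set G)) :
    Nat.card Q = 4 ∧ 3 ∣ Nat.card (normalizer (Q : Set G)) := by
  haveI : Fact (Nat.Prime 2) := ⟨Nat.prime_two⟩
  have hne := normAut_ne_one hg hc
  set a := orderOf (normAut Q hg) with ha
  have ha1 : a ≠ 1 := fun e => hne (orderOf_eq_one_iff.1 e)
  have haodd : Odd a := ho.of_dvd_nat (orderOf_normAut_dvd hg)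
  have hadvd := orderOf_aut_dvd Q (normAut Q hg)
  rw [← ha] at hadvd
  obtain ⟨k, hk⟩ := IsPGroup.iff_card.1 hQ
  have hk2 : k ≤ 2 := by
    by_contra hk3
    have : 2 ^ 3 ≤ 2 ^ k := Nat.pow_le_pow_right (by norm_num) (by omega)
    omega
  have hfact : (Nat.card Q - 1).factorial ∣ 6 := by
    interval_cases k <;> rw [hk] <;> decide
  have ha3 : a = 3 := by
    have hd : a ∈ Nat.divisors 6 := Nat.mem_divisors.2 ⟨hadvd.trans hfact, by norm_num⟩
    rw [show Nat.divisors 6 = {1, 2, 3, 6} by decide] at hd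
    simp only [Finset.mem_insert, Finset.mem_singleton] at hd
    rcases hd with e | e | e | e
    · exact absurd e ha1
    · rw [e] at haodd; exact absurd haodd (by decide)
    · exact e
    · rw [e] at haodd; exact absurd haodd (by decide)
  refine ⟨?_, ?_⟩
  · rw [ha3] at hadvd
    interval_cases k
    · rw [hk] at hadvd; norm_num at hadvd
    · rw [hk] at hadvd; norm_num at hadvd
    · rw [hk]
      norm_num
  · refine (ha3 ▸ orderOf_normAut_dvd hg : 3 ∣ orderOf g).trans ?_
    exact Subgroup.orderOf_dvd_natCard _ hg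

/-- A subgroup extended by an element of prime order normalising it. -/
lemma hasSub_extend {T : Subgroup G} {q : ℕ} (hq : q.Prime)
    (hd : q ∣ Nat.card (normalizer (T : Set G))) (hT : ¬ q ∣ Nat.card T) :
    HasSub (Nat.card T * q) G := by
  haveI : Fact q.Prime := ⟨hq⟩
  set X := normalizer (T : Set G)
  set T' := T.subgroupOf X
  obtain ⟨x, hx⟩ := exists_prime_orderOf_dvd_card' (G := X) q hd
  have hTc : Nat.card T' = Nat.card T := Nat.card_congr (subgroupOfEquivOfLe le_normalizer).toEquiv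
  refine HasSub.map (L := X) ⟨(zpowers (QuotientGroup.mk' T' x)).comap (QuotientGroup.mk' T'), ?_⟩
  rw [card_comap_mk', hTc, Nat.card_zpowers]
  congr 1
  refine orderOf_eq_prime (by rw [← map_pow, ← hx, pow_orderOf_eq_one, map_one]) ?_
  intro h1
  have hxT : x ∈ T' := (QuotientGroup.eq_one_iff x).1 h1
  exact hT (hTc ▸ hx ▸ Subgroup.orderOf_dvd_natCard _ hxT)

lemma sylow_card {m : ℕ} {p k c : ℕ} [Fact p.Prime] (h : ExactDiv m G) (hm : m = p ^ k * c)
    (hc : ¬ p ∣ c) (hp : p ∣ m) (S : Sylow p G) : Nat.card (S : Subgroup G) = p ^ k := by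
  have hp' : p.Prime := Fact.out
  have hd : ¬ p ∣ Nat.card G / m := hp'.coprime_iff_not_dvd.1 (h.2.coprime_dvd_left hp)
  have h0 : Nat.card G / m ≠ 0 := fun e => hd (e ▸ dvd_zero p)
  have hc0 : c ≠ 0 := fun e => hc (e ▸ dvd_zero p)
  rw [S.card_eq_multiplicity, ← Nat.mul_div_cancel' h.1,
    Nat.factorization_mul (by rw [hm]; exact mul_ne_zero (pow_ne_zero _ hp'.ne_zero) hc0) h0,
    Finsupp.add_apply, Nat.factorization_eq_zero_of_not_dvd hd, add_zero, hm,
    Nat.factorization_mul (pow_ne_zero _ hp'.ne_zero) hc0, Finsupp.add_apply,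
    Nat.factorization_eq_zero_of_not_dvd hc, add_zero, hp'.factorization_pow, Finsupp.single_eq_same]

theorem hasSub_twelve (h : ExactDiv 12 G) : HasSub 12 G := by
  haveI : Fact (Nat.Prime 2) := ⟨Nat.prime_two⟩
  by_cases hs : Group.IsSolvable G
  · haveI := hs
    exact hasSub_solvable h
  obtain ⟨S⟩ : Nonempty (Sylow 2 G) := inferInstance
  have hS : Nat.card (S : Subgroup G) = 2 ^ 2 := sylow_card (c := 3) h (by norm_num) (by norm_num) (by norm_num) S
  obtain ⟨Q, hQ, g, hg, ho, hc⟩ := not_solvable_fusion hs S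
  obtain ⟨h4, h3⟩ := fusion_small (S.2.to_le hQ) (by
    have := Subgroup.card_le_of_le hQ; omega) hg ho hc
  have := hasSub_extend Nat.prime_three h3 (by rw [h4]; norm_num)
  rwa [h4] at this

/-- Outside the order three an automorphism of odd order of a group of order eight forces the
elementary group and is transitive. -/
lemma fusion_eight {Q : Subgroup G} (h8 : Nat.card Q = 8) {g : G}
    (hg : g ∈ normalizer (Q : Set G)) (ho : Odd (orderOf g)) (hc : g ∉ centralizer (Q : Set G))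
    (h3 : ¬ 3 ∣ Nat.card (normalizer (Q : Set G))) :
    IsMulCommutative Q ∧ (∀ a ∈ Q, a * a = 1) ∧ 7 ∣ Nat.card (normalizer (Q : Set G)) ∧
      ∀ a ∈ Q, ∀ b ∈ Q, a ≠ 1 → b ≠ 1 → ∃ n ∈ normalizer (Q : Set G), n * a * n⁻¹ = b := by
  classical
  haveI : Fact (Nat.Prime 2) := ⟨Nat.prime_two⟩
  set φ := normAut Q hg with hφ
  have hne : φ ≠ 1 := normAut_ne_one hg hc
  set a := orderOf φ with ha
  have ha1 : a ≠ 1 := fun e => hne (orderOf_eq_one_iff.1 e)
  set q := a.minFac with hqdef
  have hq : q.Prime := Nat.minFac_prime ha1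
  haveI : Fact q.Prime := ⟨hq⟩
  have hqa : q ∣ a := Nat.minFac_dvd a
  set ψ := φ ^ (a / q) with hψ
  have ha0 : a ≠ 0 := (orderOf_pos φ).ne'
  have hψo : orderOf ψ = q := by
    rw [hψ, orderOf_pow' _ (Nat.div_pos (Nat.le_of_dvd (orderOf_pos φ) hqa) hq.pos).ne', ← ha,
      Nat.gcd_eq_right (Nat.div_dvd_of_dvd hqa), Nat.div_div_self hqa ha0]
  have hg0 : g ^ (a / q) ∈ normalizer (Q : Set G) := pow_mem hg _
  have hψeq : ψ = normAut Q hg0 := by
    rw [hψ, hφ, normAut, ← map_pow]
    rfl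
  have hqodd : Odd q := (ho.of_dvd_nat (orderOf_normAut_dvd hg)).of_dvd_nat hqa
  have hqN : q ∣ Nat.card (normalizer (Q : Set G)) :=
    (hqa.trans (orderOf_normAut_dvd hg)).trans (Subgroup.orderOf_dvd_natCard _ hg)
  -- fixed points
  set F : Subgroup Q := MonoidHom.eqLocus ψ.toMonoidHom (MonoidHom.id Q) with hF
  have hFd : Nat.card F ∣ 8 := h8 ▸ Subgroup.card_subgroup_dvd_card F
  have hFne : Nat.card F ≠ 8 := fun e => by
    have hψ1 : ψ = 1 := by
      ext x
      have : x ∈ F := by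
        rw [Subgroup.eq_top_of_card_eq F (by rw [e, h8])]; exact Subgroup.mem_top x
      exact congrArg Subtype.val this
    rw [hψ1, orderOf_one] at hψo
    exact hq.one_lt.ne hψo
  haveI : Fintype Q := Fintype.ofFinite Q
  have hP : IsPGroup q (zpowers ψ) := IsPGroup.of_card (n := 1) (by rw [Nat.card_zpowers, hψo, pow_one])
  have hfix : Nat.card (MulAction.fixedPoints (zpowers ψ) Q) = Nat.card F := by
    refine Nat.card_congr (Equiv.subtypeEquivRight fun x => ?_)
    constructor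
    · intro hx
      exact hx ⟨ψ, mem_zpowers ψ⟩
    · intro hx σ
      exact MulAction.mem_fixedBy.1 (MulAction.fixedBy_subset_fixedBy_zpow Q ψ (mem_zpowers_iff.1 σ.2).choose
        (show x ∈ MulAction.fixedBy Q ψ from hx)) |> (fun e => by
          show (σ : MulAut Q) • x = x
          rw [← (mem_zpowers_iff.1 σ.2).choose_spec]; exact e)
  have hmod := hP.card_modEq_card_fixedPoints Q
  rw [h8, hfix] at hmod
  have hF4 : Nat.card F = 1 ∨ Nat.card F = 2 ∨ Nat.card F = 4 := by
    have hle := Nat.le_of_dvd (by norm_num) hFd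
    interval_cases hh : Nat.card F <;> simp_all
  have hsub : q ∣ 8 - Nat.card F :=
    (Nat.modEq_iff_dvd' (Nat.le_of_dvd (by norm_num) hFd)).1 hmod.symm
  have hq7 : q = 7 ∧ Nat.card F = 1 := by
    rcases hF4 with e | e | e <;> rw [e] at hsub
    · exact ⟨(Nat.prime_dvd_prime_iff_eq hq (by norm_num)).1 hsub, e⟩
    · exfalso
      rcases (Nat.Prime.dvd_mul hq).1 (show q ∣ 2 * 3 from hsub) with e2 | e3
      · rw [(Nat.prime_dvd_prime_iff_eq hq Nat.prime_two).1 e2] at hqodd
        exact absurd hqodd (by decide)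
      · rw [(Nat.prime_dvd_prime_iff_eq hq Nat.prime_three).1 e3] at hqN
        exact h3 hqN
    · exfalso
      have e2 : q = 2 := (Nat.prime_dvd_prime_iff_eq hq Nat.prime_two).1
        (hq.dvd_of_dvd_pow (show q ∣ 2 ^ 2 from hsub))
      rw [e2] at hqodd
      exact absurd hqodd (by decide)
  obtain ⟨hq7, hF1⟩ := hq7
  have hFbot : F = ⊥ := Subgroup.card_eq_one.1 hF1
  have horbit : ∀ x y : Q, x ≠ 1 → y ≠ 1 → ∃ σ : zpowers ψ, σ • x = y := by
    intro x y hx hy
    have hnf : x ∉ MulAction.fixedPoints (zpowers ψ) Q := fun hf =>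
      hx (Subgroup.mem_bot.1 (hFbot ▸ (show x ∈ F from hf ⟨ψ, mem_zpowers ψ⟩)))
    obtain ⟨k, hk⟩ := hP.card_orbit x
    have hk7 : 7 ≤ Nat.card (MulAction.orbit (zpowers ψ) x) := by
      rcases Nat.eq_zero_or_pos k with rfl | hk0
      · exfalso
        rw [pow_zero] at hk
        refine hnf fun σ => ?_
        haveI := (Nat.card_eq_one_iff_unique.1 hk).1
        exact congrArg Subtype.val (Subsingleton.elim
          (⟨σ • x, MulAction.mem_orbit x σ⟩ : MulAction.orbit (zpowers ψ) x) ⟨x, MulAction.mem_orbit_self x⟩)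
      · rw [hk, hq7]
        exact Nat.le_self_pow hk0.ne' 7
    have hsubset : MulAction.orbit (zpowers ψ) x ⊆ {z : Q | z ≠ 1} := by
      rintro _ ⟨σ, rfl⟩ e
      exact hx ((map_eq_one_iff _ (σ : MulAut Q).injective).1 e)
    have heq : MulAction.orbit (zpowers ψ) x = {z : Q | z ≠ 1} := by
      refine Set.eq_of_subset_of_ncard_le hsubset ?_ (Set.toFinite _)
      rw [Set.ncard_eq_toFinset_card', Set.toFinset_setOf, Finset.filter_ne' Finset.univ (1 : Q),
        Finset.card_erase_of_mem (Finset.mem_univ _), Finset.card_univ, ← Nat.card_eq_fintype_card, h8,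
        ← Nat.card_coe_set_eq]
      exact hk7
    have hy' : y ∈ MulAction.orbit (zpowers ψ) x := heq ▸ hy
    exact hy'
  have hconj : ∀ x y : Q, x ≠ 1 → y ≠ 1 → ∃ n ∈ normalizer (Q : Set G), n * (x : G) * n⁻¹ = y := by
    intro x y hx hy
    obtain ⟨⟨σ, hσ⟩, rfl⟩ := horbit x y hx hy
    obtain ⟨k, rfl⟩ := mem_zpowers_iff.1 hσ
    refine ⟨(g ^ (a / q)) ^ k, zpow_mem hg0 k, ?_⟩
    show _ = ((ψ ^ k : MulAut Q) x : G)
    rw [hψeq, normAut, ← map_zpow]
    rfl
  have hQp : IsPGroup 2 Q := IsPGroup.of_card (n := 3) (by rw [h8]; norm_num)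
  haveI : Nontrivial Q := Finite.one_lt_card_iff_nontrivial.1 (by omega)
  haveI := hQp.center_nontrivial
  obtain ⟨⟨z, hz⟩, hz1⟩ := exists_ne (1 : center Q)
  have hcom : ∀ x : Q, x ∈ center Q := by
    intro x
    by_cases hx : x = 1
    · rw [hx]; exact one_mem _
    obtain ⟨⟨σ, _hm⟩, hσ⟩ := horbit z x (fun e => hz1 (Subtype.ext e)) hx
    rw [← hσ]
    exact (Subgroup.characteristic_iff_le_comap.1 inferInstance σ) hz
  refine ⟨⟨⟨fun x y => (Subgroup.mem_center_iff.1 (hcom y) x)⟩⟩, ?_, hq7 ▸ hqN, fun x hx y hy hx1 hy1 =>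
    hconj ⟨x, hx⟩ ⟨y, hy⟩ (fun e => hx1 (congrArg Subtype.val e)) fun e => hy1 (congrArg Subtype.val e)⟩
  intro x hx
  by_cases hx1 : x = 1
  · rw [hx1, one_mul]
  obtain ⟨u, hu⟩ := exists_prime_orderOf_dvd_card' (G := Q) 2 (by rw [h8]; norm_num)
  obtain ⟨n, -, hn⟩ := hconj u ⟨x, hx⟩ (fun e => by rw [e, orderOf_one] at hu; omega)
    fun e => hx1 (congrArg Subtype.val e)
  have hn' : n * (u : G) * n⁻¹ = x := hn
  have hu2 : (u : G) * u = 1 := by
    have := pow_orderOf_eq_one u
    rw [hu, pow_two] at this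
    exact congrArg Subtype.val this
  rw [← hn']
  calc n * (u : G) * n⁻¹ * (n * u * n⁻¹) = n * ((u : G) * u) * n⁻¹ := by group
    _ = 1 := by rw [hu2, mul_one, mul_inv_cancel]

end Cfsg.Lib.ForcedOrder
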