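import Cfsg.Agent.ForcedOrder.Fusion
import Cfsg.Agent.GWFour.Consumers.Reduce
import Cfsg.Agent.S0804
import Cfsg.Agent.GenDihedral.Red.Tools

/-!
The orders 24 and 60, given the four-group theorem and the solvable-centraliser theorem.
-/

set_option autoImplicit false
set_option linter.unusedSectionVars false
set_option linter.style.haveILetI false

namespace Cfsg.Lib.ForcedOrder

open Subgroup

variable {G : Type} [Group G] [Finite G]

lemma exact_prime {m p : ℕ} (h : ExactDiv m G) (_hp : p.Prime) (hpm : p ∣ m) {n : ℕ}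
    (hn : ¬ p ^ n ∣ m) : ¬ p ^ n ∣ Nat.card G := by
  intro hd
  rw [← Nat.mul_div_cancel' h.1] at hd
  exact hn (((h.2.coprime_dvd_left hpm).pow_left n).dvd_mul_right.1 hd)

/-- A normal subgroup of order four whose centraliser has it as an almost Sylow subgroup. -/
lemma solvable_normalizer_four (Q : Subgroup G) (h4 : Nat.card Q = 4) (hc : ∀ a ∈ Q, ∀ b ∈ Q, a * b = b * a)
    (h16 : ¬ 16 ∣ Nat.card G) : Group.IsSolvable ↥(normalizer (Q : Set G)) := by
  set N := normalizer (Q : Set G) with hN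
  set Q' := Q.subgroupOf N with hQ'
  haveI : Q'.Normal := (normal_subgroupOf_iff_le_normalizer le_normalizer).2 le_rfl
  have hc4 : Nat.card Q' = 4 := (Nat.card_congr (subgroupOfEquivOfLe le_normalizer).toEquiv).trans h4
  refine Cfsg.Lib.GenDihedral.solvable_of_small_normal Q' hc4.le ?_
  set C := centralizer (Q' : Set ↥N) with hC
  set Q'' := Q'.subgroupOf C with hQ''
  have hle : Q' ≤ C := fun x hx => mem_centralizer_iff.2 fun y hy =>
    Subtype.ext (hc _ (mem_subgroupOf.1 hy) _ (mem_subgroupOf.1 hx))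
  haveI : Q''.Normal := inferInstance
  refine Cfsg.Lib.GenDihedral.solvable_ext Q'' (Group.isSolvable_of_comm fun a b =>
    Subtype.ext (Subtype.ext ((mem_centralizer_iff.1 (b : C).2 ((a : C) : ↥N) a.2))))
    (Cfsg.Lib.GenDihedral.solvable_of_not_four fun hd => h16 ?_)
  have h1 := Subgroup.card_eq_card_quotient_mul_card_subgroup Q''
  have hc'' : Nat.card Q'' = 4 := (Nat.card_congr (subgroupOfEquivOfLe hle).toEquiv).trans hc4
  rw [hc''] at h1
  have h2 : 16 ∣ Nat.card C := h1 ▸ mul_dvd_mul hd (dvd_refl 4)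
  exact h2.trans ((card_subgroup_dvd_card C).trans (card_subgroup_dvd_card N))

theorem hasSub_sixty (hF : Cfsg.Lib.GWFour.FourGroupProp.{0}) (h : ExactDiv 60 G) : HasSub 60 G := by
  haveI : Fact (Nat.Prime 2) := ⟨Nat.prime_two⟩
  by_cases hs : Group.IsSolvable G
  · haveI := hs
    exact hasSub_solvable h
  have h8 : ¬ 2 ^ 3 ∣ Nat.card G := exact_prime h Nat.prime_two (by norm_num) (by norm_num)
  have h4 : 4 ∣ Nat.card G := (show 4 ∣ 60 by norm_num).trans h.1
  obtain ⟨S⟩ : Nonempty (Sylow 2 G) := inferInstance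
  have hS := Cfsg.Lib.GWFour.klein_of_card (Cfsg.Lib.GWFour.sylow_card_of h4 h8 S)
    (fun hc => hs (Cfsg.Lib.CyclicInter.solvable_of_cyclic S hc))
  obtain ⟨F, i1, i2, -, -, L, hLn, hLi, ⟨e⟩, -⟩ := Cfsg.Lib.GWFour.almost_simple hF S hS hs
  set O := Cfsg.oddCore G with hOdef
  have hodd : Odd (Nat.card O) := Nat.coprime_two_right.1 (Cfsg.Lib.Components.coprime_card_pPrimeCore 2)
  have hOs : Group.IsSolvable O := solvable_of_odd hodd
  have hcard := Subgroup.card_eq_card_quotient_mul_card_subgroup O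
  by_cases h5 : 5 ∣ Nat.card L
  · -- a subgroup isomorphic to `A₅`, lifted by Schur–Zassenhaus
    have h5' : 5 ∣ Fintype.card F * (Fintype.card F ^ 2 - 1) := by
      rw [← Cfsg.Lib.Classical.SmallPSL.card_psl (F := F) rfl]
      exact (Nat.card_congr e.toEquiv ▸ h5).mul_left _
    obtain ⟨A, ⟨eA⟩⟩ := (Cfsg.Agent.S0804.result rfl).2 h5'
    set B : Subgroup (G ⧸ O) := (A.comap e.toMonoidHom).map L.subtype with hB
    have hB60 : Nat.card B = 60 := by
      rw [hB, card_map_of_injective L.subtype_injective,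
        Nat.card_congr ((A.comap e.toMonoidHom).equivMapOfInjective e.toMonoidHom e.injective).toEquiv,
        Subgroup.map_comap_eq_self_of_surjective e.surjective, Nat.card_congr eA.toEquiv,
        nat_card_alternatingGroup, Nat.card_fin]
      rfl
    set X := B.comap (QuotientGroup.mk' O) with hX
    have hX60 : Nat.card X = Nat.card O * 60 := by rw [hX, card_comap_mk', hB60]
    set O' := O.subgroupOf X
    have hle : O ≤ X := fun x hx => by
      rw [hX, mem_comap, QuotientGroup.mk'_apply, (QuotientGroup.eq_one_iff x).2 hx]; exact one_mem _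
    have hO'c : Nat.card O' = Nat.card O := Nat.card_congr (subgroupOfEquivOfLe hle).toEquiv
    have hidx : O'.index = 60 := by
      have := O'.card_mul_index
      rw [hO'c, hX60] at this
      exact Nat.eq_of_mul_eq_mul_left Nat.card_pos this
    have hcop : (Nat.card O').Coprime O'.index := by
      rw [hO'c, hidx]
      refine (h.2.coprime_dvd_right ?_).symm
      have hd : 60 * Nat.card O ∣ Nat.card G := by
        rw [mul_comm, ← hX60]; exact card_subgroup_dvd_card X
      exact (Nat.dvd_div_iff_mul_dvd h.1).2 hd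
    obtain ⟨K, hK⟩ := Subgroup.exists_right_complement'_of_coprime hcop
    refine HasSub.map (L := X) ⟨K, ?_⟩
    rw [← hK.symm.index_eq_card, hidx]
  · set T : Sylow 2 (G ⧸ O) := S.mapSurjective (QuotientGroup.mk'_surjective O) with hT
    set W := normalizer ((T : Subgroup (G ⧸ O)) : Set (G ⧸ O)) with hW
    have h60 : 60 ∣ Nat.card O * Nat.card (G ⧸ O) := by
      rw [mul_comm, ← hcard]; exact h.1
    have hQ4 : 4 ∣ Nat.card (G ⧸ O) :=
      (Nat.Coprime.dvd_mul_left ((Nat.coprime_two_left.2 hodd).pow_left 2)).1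
        ((show 4 ∣ 60 by norm_num).trans h60)
    have hQ8 : ¬ 8 ∣ Nat.card (G ⧸ O) := fun h' => h8 (hcard ▸ h'.mul_right _)
    have hT4 := Cfsg.Lib.GWFour.sylow_card_of hQ4 hQ8 T
    have hQns : ¬ Group.IsSolvable (G ⧸ O) := fun h' => hs (Cfsg.Lib.GenDihedral.solvable_ext O hOs h')
    haveI := Cfsg.Lib.GWFour.klein_of_card hT4 (fun hc => hQns (Cfsg.Lib.CyclicInter.solvable_of_cyclic T hc))
    have hTc : ∀ a ∈ (T : Subgroup (G ⧸ O)), ∀ b ∈ (T : Subgroup (G ⧸ O)), a * b = b * a := fun a ha b hb =>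
      congrArg Subtype.val (Cfsg.Lib.GWFour.comm_of_klein (⟨a, ha⟩ : ↥(T : Subgroup (G ⧸ O))) ⟨b, hb⟩)
    have hWs : Group.IsSolvable ↥W := solvable_normalizer_four _ hT4 hTc fun h' =>
      hQ8 ((show 8 ∣ 16 by norm_num).trans h')
    have hW4 : 4 ∣ Nat.card W := hT4 ▸ card_dvd_of_le le_normalizer
    have hW3 : 3 ∣ Nat.card W := by
      obtain ⟨Q, hQ, g, hg, ho, hc⟩ := not_solvable_fusion hQns T
      obtain ⟨hq4, hq3⟩ := fusion_small (T.2.to_le hQ) ((card_le_of_le hQ).trans hT4.le) hg ho hc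
      obtain rfl : Q = (T : Subgroup (G ⧸ O)) := Subgroup.eq_of_le_of_card_ge hQ (by rw [hq4, hT4])
      exact hq3
    have hW5 : 5 ∣ Nat.card O * Nat.card W := by
      have hTL : (T : Subgroup (G ⧸ O)) ≤ L := by
        intro x hx
        haveI := hLn
        have h2 : orderOf (x : (G ⧸ O) ⧸ L) ∣ 2 := orderOf_dvd_of_pow_eq_one (by
          rw [← QuotientGroup.mk_pow, pow_two, show x * x = 1 from congrArg Subtype.val
            (Cfsg.Lib.GWFour.sq_of_klein (⟨x, hx⟩ : ↥(T : Subgroup (G ⧸ O)))), QuotientGroup.mk_one])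
        have h' : orderOf (x : (G ⧸ O) ⧸ L) ∣ L.index := by
          rw [Subgroup.index_eq_card]; exact _root_.orderOf_dvd_natCard _
        exact (QuotientGroup.eq_one_iff x).1 (orderOf_eq_one_iff.1
          (Nat.eq_one_of_dvd_coprimes (Nat.coprime_two_left.2 hLi) h2 h'))
      haveI := hLn
      have hfr : W ⊔ L = ⊤ := by
        have := Sylow.normalizer_sup_eq_top (T.subtype hTL) (N := L)
        rwa [show ((T.subtype hTL : Sylow 2 L) : Subgroup L).map L.subtype = (T : Subgroup (G ⧸ O)) from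
          Subgroup.map_subgroupOf_eq_of_le hTL] at this
      have hidx : L.index ∣ Nat.card W := by
        have hrel : L.relIndex W = L.index := by
          rw [← relIndex_top_right, ← hfr, Subgroup.relIndex_sup_right]
        exact hrel ▸ Subgroup.index_dvd_card _
      have h5G : 5 ∣ Nat.card O * (Nat.card L * L.index) := by
        rw [L.card_mul_index]; exact (show 5 ∣ 60 by norm_num).trans h60
      have h5p : Nat.Prime 5 := by norm_num
      rcases (Nat.Prime.dvd_mul h5p).1 h5G with h' | h'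
      · exact h'.mul_right _
      · exact (((Nat.Prime.dvd_mul h5p).1 h').resolve_left h5).trans (hidx.trans (dvd_mul_left _ _))
    refine hasSub_solvable_le h (W.comap (QuotientGroup.mk' O)) ?_ (solvable_comap O W hOs hWs)
    rw [card_comap_mk']
    exact Nat.Coprime.mul_dvd_of_dvd_of_dvd (show Nat.Coprime 12 5 by norm_num)
      ((Nat.Coprime.mul_dvd_of_dvd_of_dvd (show Nat.Coprime 4 3 by norm_num) hW4 hW3).mul_left _) hW5

/-- The solvable-centraliser theorem for abelian Sylow 2-subgroups, as a hypothesis. -/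
def SolvCentProp : Prop :=
  ∀ (G : Type) [Group G] [Finite G] (S : Sylow 2 G), IsMulCommutative ↥(S : Subgroup G) →
    (∀ t : G, orderOf t = 2 → Group.IsSolvable ↥(Subgroup.centralizer ({t} : Set G))) →
    Group.IsSolvable G ∨
      ∃ (F : Type) (_ : Field F) (_ : Fintype F),
        (((Fintype.card F % 8 = 3 ∨ Fintype.card F % 8 = 5) ∧ 5 ≤ Fintype.card F) ∨
          (∃ n : ℕ, 2 ≤ n ∧ Fintype.card F = 2 ^ n)) ∧
        ∃ N : Subgroup (G ⧸ Cfsg.oddCore G), N.Normal ∧
          Nonempty (↥N ≃* Matrix.ProjectiveSpecialLinearGroup (Fin 2) F) ∧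
          Subgroup.centralizer (N : Set (G ⧸ Cfsg.oddCore G)) = ⊥

theorem hasSub_twentyFour (hC : SolvCentProp) (h : ExactDiv 24 G) : HasSub 24 G := by
  haveI : Fact (Nat.Prime 2) := ⟨Nat.prime_two⟩
  by_cases hs : Group.IsSolvable G
  · haveI := hs
    exact hasSub_solvable h
  obtain ⟨S⟩ : Nonempty (Sylow 2 G) := inferInstance
  have hS : Nat.card (S : Subgroup G) = 8 :=
    sylow_card (k := 3) (c := 3) h (by norm_num) (by norm_num) (by norm_num) S
  have h9 : ¬ 3 ^ 2 ∣ Nat.card G := exact_prime h Nat.prime_three (by norm_num) (by norm_num)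
  have h16 : ¬ 2 ^ 4 ∣ Nat.card G := exact_prime h Nat.prime_two (by norm_num) (by norm_num)
  have four : ∀ Q : Subgroup G, Q ≤ (S : Subgroup G) → Nat.card Q = 4 →
      3 ∣ Nat.card (normalizer (Q : Set G)) → HasSub 24 G := by
    intro Q hQ h4 h3
    have hQc : ∀ a ∈ Q, ∀ b ∈ Q, a * b = b * a := fun a ha b hb => congrArg Subtype.val
      ((IsPGroup.isMulCommutative_of_card_eq_prime_sq (p := 2) (G := ↥Q) (by rw [h4]; rfl)).is_comm.comm
        (⟨a, ha⟩ : Q) ⟨b, hb⟩)
    have hi : Q.relIndex (S : Subgroup G) = 2 := by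
      have := Subgroup.relIndex_mul_relIndex ⊥ Q (S : Subgroup G) bot_le hQ
      rw [relIndex_bot_left, relIndex_bot_left, h4, hS] at this
      omega
    haveI : (Q.subgroupOf (S : Subgroup G)).Normal := normal_of_index_eq_two hi
    have hSN : (S : Subgroup G) ≤ normalizer (Q : Set G) :=
      (normal_subgroupOf_iff_le_normalizer hQ).1 inferInstance
    refine hasSub_solvable_le h _ ?_ (solvable_normalizer_four Q h4 hQc h16)
    exact Nat.Coprime.mul_dvd_of_dvd_of_dvd (show Nat.Coprime 8 3 by norm_num) (hS ▸ card_dvd_of_le hSN) h3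
  by_cases h3 : 3 ∣ Nat.card (normalizer ((S : Subgroup G) : Set G))
  · refine hasSub_solvable_le h _
      (Nat.Coprime.mul_dvd_of_dvd_of_dvd (show Nat.Coprime 8 3 by norm_num) (hS ▸ card_dvd_of_le le_normalizer) h3) ?_
    have hsub : ((S.subtype le_normalizer : Sylow 2 _) : Subgroup
        ↥(normalizer ((S : Subgroup G) : Set G))).Normal :=
      (normal_subgroupOf_iff_le_normalizer le_normalizer).2 le_rfl
    haveI := hsub
    refine Cfsg.Lib.GenDihedral.solvable_ext _ (Cfsg.Lib.GenDihedral.solvable_of_two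
      (S.subtype le_normalizer).2) (solvable_of_odd ?_)
    rw [← Subgroup.index_eq_card]
    exact Nat.not_even_iff_odd.1 fun hev => (S.subtype le_normalizer).not_dvd_index hev.two_dvd
  obtain ⟨Q, hQ, g, hg, ho, hgc⟩ := not_solvable_fusion hs S
  obtain ⟨j, hj, hj'⟩ := (Nat.dvd_prime_pow Nat.prime_two).1
    (show Nat.card Q ∣ 2 ^ 3 from (show (2 : ℕ) ^ 3 = 8 from rfl).symm ▸ hS ▸ card_dvd_of_le hQ)
  by_cases hj3 : j = 3
  swap
  · obtain ⟨h4, h4'⟩ := fusion_small (S.2.to_le hQ)
      (by rw [hj']; exact (Nat.pow_le_pow_right two_pos (show j ≤ 2 by omega))) hg ho hgc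
    exact four Q hQ h4 h4'
  obtain rfl : Q = (S : Subgroup G) := Subgroup.eq_of_le_of_card_ge hQ (by rw [hj', hj3, hS]; norm_num)
  obtain ⟨hcomm, hexp, -, htrans⟩ := fusion_eight hS hg ho hgc h3
  exfalso
  haveI := hcomm
  -- the involution centralisers are solvable
  have hcent : ∀ t ∈ (S : Subgroup G), orderOf t = 2 → Group.IsSolvable (centralizer ({t} : Set G)) := by
    intro t ht ht2
    by_contra hns
    set C := centralizer ({t} : Set G) with hCdef
    have hSC : (S : Subgroup G) ≤ C := fun x hx => mem_centralizer_singleton_iff.2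
      (congrArg Subtype.val (hcomm.is_comm.comm (⟨x, hx⟩ : (S : Subgroup G)) ⟨t, ht⟩))
    set Z := (zpowers t).subgroupOf C with hZ
    have hZle : zpowers t ≤ C := zpowers_le.2 (hSC ht)
    have hZc : Z ≤ center C := by
      intro x hx
      obtain ⟨i, hi⟩ := mem_zpowers_iff.1 (mem_subgroupOf.1 hx)
      refine mem_center_iff.2 fun y => Subtype.ext ?_
      show (y : G) * x = x * y
      rw [← hi]
      exact (show Commute (y : G) t from mem_centralizer_singleton_iff.1 y.2).zpow_right i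
    haveI : Z.Normal := ⟨fun x hx g => by rwa [mem_center_iff.1 (hZc hx) g, mul_inv_cancel_right]⟩
    have hZ2 : Nat.card Z = 2 := (Nat.card_congr (subgroupOfEquivOfLe hZle).toEquiv).trans
      (by rw [Nat.card_zpowers, ht2])
    set P := (S.subtype hSC).mapSurjective (QuotientGroup.mk'_surjective Z) with hP
    have hns' : ¬ Group.IsSolvable (C ⧸ Z) := fun h' => hns (Cfsg.Lib.GenDihedral.solvable_ext Z
      (Group.isSolvable_of_comm fun a b => Subtype.ext (mem_center_iff.1 (hZc b.2) a)) h')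
    have hC8 : 8 ∣ Nat.card C := hS ▸ card_dvd_of_le hSC
    have hcC := Subgroup.card_eq_card_quotient_mul_card_subgroup Z
    rw [hZ2] at hcC
    have hP4 : Nat.card ↥(P : Subgroup (C ⧸ Z)) = 4 := by
      refine Cfsg.Lib.GWFour.sylow_card_of ?_ (fun h' => h16 ?_) P
      · obtain ⟨c, hc⟩ := hC8; exact ⟨c, by omega⟩
      · exact ((hcC ▸ mul_dvd_mul h' (dvd_refl 2) : 8 * 2 ∣ Nat.card C)).trans (card_subgroup_dvd_card C)
    obtain ⟨Q, hQ, g', hg', ho', hc'⟩ := not_solvable_fusion hns' P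
    obtain ⟨hq4, hq3⟩ := fusion_small (P.2.to_le hQ) ((card_le_of_le hQ).trans hP4.le) hg' ho' hc'
    obtain rfl : Q = (P : Subgroup (C ⧸ Z)) := Subgroup.eq_of_le_of_card_ge hQ (by rw [hq4, hP4])
    apply h3
    have hcomap : (P : Subgroup (C ⧸ Z)).comap (QuotientGroup.mk' Z) = (S : Subgroup G).subgroupOf C := by
      have hle : (S : Subgroup G).subgroupOf C ≤ (P : Subgroup (C ⧸ Z)).comap (QuotientGroup.mk' Z) :=
        fun x hx => by
          rw [mem_comap]
          exact ⟨x, hx, rfl⟩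
      refine (Subgroup.eq_of_le_of_card_ge hle ?_).symm
      rw [card_comap_mk', hZ2, hP4, Nat.card_congr (subgroupOfEquivOfLe hSC).toEquiv, hS]
    have hn := Subgroup.comap_normalizer_eq_of_surjective (P : Subgroup (C ⧸ Z))
      (QuotientGroup.mk'_surjective Z)
    rw [hcomap] at hn
    have h3' : 3 ∣ Nat.card ↥((normalizer ((P : Subgroup (C ⧸ Z)) : Set (C ⧸ Z))).comap (QuotientGroup.mk' Z)) := by
      rw [card_comap_mk']; exact hq3.mul_left _
    rw [hn] at h3'
    refine h3'.trans ?_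
    rw [← Subgroup.card_map_of_injective C.subtype_injective]
    refine card_dvd_of_le ?_
    have := Subgroup.le_normalizer_map (H := (S : Subgroup G).subgroupOf C) C.subtype
    rwa [Subgroup.map_subgroupOf_eq_of_le hSC] at this
  rcases hC G S hcomm (fun t ht => by
    obtain ⟨x, hx⟩ := IsPGroup.exists_le_sylow
      (IsPGroup.of_card (n := 1) (by rw [Nat.card_zpowers, ht, pow_one]) : IsPGroup 2 ↥(zpowers t))
    obtain ⟨c, hc⟩ := MulAction.exists_smul_eq G x S
    have hmem : c * t * c⁻¹ ∈ (S : Subgroup G) := by rw [← hc]; exact ⟨t, hx (mem_zpowers t), rfl⟩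
    haveI := hcent _ hmem (by rw [← MulAut.conj_apply, MulEquiv.orderOf_eq, ht])
    exact Group.isSolvable_of_isSolvable_injective
      (f := ((MulAut.conj c).toMonoidHom.comp (centralizer ({t} : Set G)).subtype).codRestrict
        (centralizer ({c * t * c⁻¹} : Set G)) (fun y => mem_centralizer_singleton_iff.2 (by
          show c * (y : G) * c⁻¹ * (c * t * c⁻¹) = c * t * c⁻¹ * (c * (y : G) * c⁻¹)
          have := mem_centralizer_singleton_iff.1 y.2
          calc c * (y : G) * c⁻¹ * (c * t * c⁻¹) = c * ((y : G) * t) * c⁻¹ := by group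
            _ = c * (t * (y : G)) * c⁻¹ := by rw [this]
            _ = _ := by group)))
      (fun a b e => Subtype.ext ((MulAut.conj c).injective (congrArg Subtype.val e)))) with
    h' | ⟨F, i1, i2, hq, N, hN, ⟨e⟩, -⟩
  · exact hs h'
  set O := Cfsg.oddCore G with hOdef
  have hodd : Odd (Nat.card O) := Nat.coprime_two_right.1 (Cfsg.Lib.Components.coprime_card_pPrimeCore 2)
  haveI := hN
  set M := N.comap (QuotientGroup.mk' O) with hM
  haveI : M.Normal := hN.comap _
  have hMc : Nat.card M = Nat.card O * Nat.card N := card_comap_mk' O N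
  have hNns : ¬ Group.IsSolvable ↥N := by
    intro h'
    have h4F : 4 ≤ Fintype.card F := by
      rcases hq with ⟨-, h5⟩ | ⟨n, hn, hn'⟩
      · omega
      · rw [hn']; exact (Nat.pow_le_pow_right two_pos hn)
    haveI : IsSimpleGroup (Matrix.ProjectiveSpecialLinearGroup (Fin 2) F) :=
      Cfsg.Lib.Classical.isSimpleGroup_PSL_fin le_rfl (fun _ => by rwa [Nat.card_eq_fintype_card])
    haveI := h'
    haveI : Group.IsSolvable (Matrix.ProjectiveSpecialLinearGroup (Fin 2) F) :=
      Group.isSolvable_of_surjective (f := e.toMonoidHom) e.surjective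
    have hcomm' : ∀ a b : Matrix.ProjectiveSpecialLinearGroup (Fin 2) F, a * b = b * a :=
      IsSimpleGroup.comm_iff_isSolvable.2 inferInstance
    letI : CommGroup (Matrix.ProjectiveSpecialLinearGroup (Fin 2) F) :=
      { (inferInstance : Group (Matrix.ProjectiveSpecialLinearGroup (Fin 2) F)) with mul_comm := hcomm' }
    have hp := IsSimpleGroup.prime_card (α := Matrix.ProjectiveSpecialLinearGroup (Fin 2) F)
    have hh := Cfsg.Lib.Classical.SmallPSL.card_psl (F := F) rfl
    obtain ⟨c, hc⟩ : ∃ c, Fintype.card F = c := ⟨_, rfl⟩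
    rw [hc] at hh h4F
    have h60 : 4 * (4 ^ 2 - 1) ≤ c * (c ^ 2 - 1) :=
      Nat.mul_le_mul h4F (Nat.sub_le_sub_right (Nat.pow_le_pow_left h4F 2) 1)
    have h3 : 3 ∣ c * (c ^ 2 - 1) := by
      obtain ⟨d, rfl | rfl | rfl⟩ : ∃ d, c = 3 * d ∨ c = 3 * d + 1 ∨ c = 3 * d + 2 := ⟨c / 3, by omega⟩
      · exact (dvd_mul_right 3 d).mul_right _
      · exact Dvd.dvd.mul_left ⟨3 * d * d + 2 * d, by
          rw [show (3 * d + 1) ^ 2 = 3 * (3 * d * d + 2 * d) + 1 by ring, Nat.add_sub_cancel]⟩ _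
      · exact Dvd.dvd.mul_left ⟨3 * d * d + 4 * d + 1, by
          rw [show (3 * d + 2) ^ 2 = 3 * (3 * d * d + 4 * d + 1) + 1 by ring, Nat.add_sub_cancel]⟩ _
    have hg2 : Nat.gcd 2 (c - 1) ≤ 2 := Nat.le_of_dvd two_pos (Nat.gcd_dvd_left _ _)
    rw [← hh] at h3 h60
    rcases (Nat.Prime.dvd_mul Nat.prime_three).1 h3 with h3 | h3
    · have := (Nat.le_of_dvd two_pos (h3.trans (Nat.gcd_dvd_left _ _)))
      omega
    · have := (Nat.prime_dvd_prime_iff_eq Nat.prime_three hp).1 h3
      rw [← this] at h60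
      omega
  have hN4 : 4 ∣ Nat.card N := by
    by_contra h'; exact hNns (Cfsg.Lib.GenDihedral.solvable_of_not_four h')
  have hN8 : ¬ 8 ∣ Nat.card N := by
    rcases hq with ⟨h8, -⟩ | ⟨n, hn, hn'⟩
    · obtain ⟨P⟩ : Nonempty (Sylow 2 (Matrix.ProjectiveSpecialLinearGroup (Fin 2) F)) := inferInstance
      rw [Nat.card_congr e.toEquiv]
      exact (Cfsg.Lib.GWFour.sylow_card_four P
        (Cfsg.Lib.Classical.SLTwoTori.sylow_two_PSL_isKleinFour rfl h8 P)).2
    · rw [Nat.card_congr e.toEquiv]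
      have hh := Cfsg.Lib.Classical.SmallPSL.card_psl (F := F) rfl
      have hG : Nat.card (Matrix.ProjectiveSpecialLinearGroup (Fin 2) F) ∣ Nat.card G := by
        rw [← Nat.card_congr e.toEquiv]
        exact (card_subgroup_dvd_card N).trans (Subgroup.card_quotient_dvd_card O)
      have hev : Nat.gcd 2 (Fintype.card F - 1) = 1 := by
        rw [hn', Nat.gcd_comm]
        exact (Nat.coprime_two_right.2 (Nat.odd_iff.2 (by
          have : 2 ∣ 2 ^ n := dvd_pow_self 2 (by omega)
          have := Nat.one_le_two_pow (n := n)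
          omega)))
      rw [hev, one_mul] at hh
      rw [hn'] at hh
      rcases (show n = 2 ∨ n = 3 ∨ 4 ≤ n by omega) with rfl | rfl | hn4
      · rw [hh]; norm_num
      · exfalso; rw [hh] at hG; exact h9 ((show 3 ^ 2 ∣ 2 ^ 3 * ((2 ^ 3) ^ 2 - 1) by norm_num).trans hG)
      · exfalso; rw [hh] at hG
        exact h16 (((pow_dvd_pow 2 hn4).trans (dvd_mul_right _ _)).trans hG)
  obtain ⟨k, m, hk, hm, hMk⟩ := Cfsg.Lib.GenDihedral.card_inf_sylow S M
  rw [hMc] at hMk
  have hk1 : 4 ∣ 2 ^ k * m := hMk ▸ hN4.mul_left _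
  have hk2 : ¬ 8 ∣ 2 ^ k * m := fun h' => hN8
    ((Nat.Coprime.dvd_mul_left ((Nat.coprime_two_left.2 hodd).pow_left 3)).1 (hMk ▸ h'))
  have hk' : k = 2 := by
    rcases (show k = 0 ∨ k = 1 ∨ k = 2 ∨ 3 ≤ k by omega) with rfl | rfl | hk' | hk'
    · exfalso; obtain ⟨c, hc⟩ := hk1; obtain ⟨d, hd⟩ := hm; omega
    · exfalso; obtain ⟨c, hc⟩ := hk1; obtain ⟨d, hd⟩ := hm; omega
    · exact hk'
    · exact absurd ((pow_dvd_pow 2 hk').mul_right m) hk2
  subst hk'
  obtain ⟨t, htI, ht1⟩ := ((S : Subgroup G) ⊓ M).bot_or_exists_ne_one.resolve_left fun e' => by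
    rw [e', card_bot] at hk; norm_num at hk
  obtain ⟨s, hsS, hsM⟩ : ∃ s ∈ (S : Subgroup G), s ∉ M := by
    by_contra hne
    push Not at hne
    rw [inf_eq_left.2 hne, hS] at hk
    norm_num at hk
  obtain ⟨n, -, hn⟩ := htrans t htI.1 s hsS ht1 (fun e' => hsM (e' ▸ one_mem M))
  exact hsM (hn ▸ (inferInstance : M.Normal).conj_mem t htI.2 n)

end Cfsg.Lib.ForcedOrder
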