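import Cfsg.Agent.ForcedOrder.Converse
import Cfsg.Agent.ForcedOrder.Sixty

/-!
Which orders are forced, given the four-group theorem and the solvable-centraliser theorem.
-/

set_option autoImplicit false

namespace Cfsg.Lib.ForcedOrder

theorem main (hF : Cfsg.Lib.GWFour.FourGroupProp.{0}) (hC : SolvCentProp) (m : ℕ) (hm : 2 ≤ m) :
    (∀ (G : Type) [Group G] [Finite G], m ∣ Nat.card G → m.Coprime (Nat.card G / m) →
        ∃ H : Subgroup G, Nat.card H = m) ↔
    (IsPrimePow m ∨ m % 4 = 2 ∨ m = 12 ∨ m = 24 ∨ m = 60) := by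
  constructor
  · intro h
    by_contra hne
    simp only [not_or] at hne
    obtain ⟨h1, h2, h3, h4, h5⟩ := hne
    obtain ⟨G, i1, i2, hd, hc, hnot⟩ := exists_counterexample hm h1 h2 h3 h4 h5
    obtain ⟨H, hH⟩ := h G hd hc
    exact hnot H hH
  · intro h G _ _ hd hc
    rcases h with h | h | rfl | rfl | rfl
    · exact hasSub_of_primePow ⟨hd, hc⟩ h
    · exact hasSub_of_mod_four ⟨hd, hc⟩ h
    · exact hasSub_twelve ⟨hd, hc⟩
    · exact hasSub_twentyFour hC ⟨hd, hc⟩
    · exact hasSub_sixty hF ⟨hd, hc⟩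

end Cfsg.Lib.ForcedOrder
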